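import Mathlib
import Groth.Prelude.Def_QCohCat
import Groth.Prelude.Def_Coh
import Groth.Prelude.Def_CohB1
import Groth.Agent.H12.QCohAbelian
import Groth.Agent.H12.QCohEpi
import Groth.Agent.H12.SubSum
import Groth.Agent.H44.PushUnit
import Groth.Agent.H30.QCohLoc
import Groth.Agent.S9514

/-!
# Closure properties of quasi-coherent / coherent modules as `ObjectProperty`s

These are *not* declared as global instances (statements of other rows carry such closure
properties as instance hypotheses); use `attribute [local instance]`.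
-/

set_option autoImplicit false
universe u
set_option linter.style.haveILetI false
open CategoryTheory Limits TopologicalSpace Opposite AlgebraicGeometry ZeroObject

namespace Groth.Agent.H30.CohLoc

variable (X : Scheme.{u})

/-- quasi-coherent modules, as an object property -/
abbrev qcP : ObjectProperty X.Modules := QCohCat.isQCoh X

/-- coherent modules, as an object property -/
abbrev cohP : ObjectProperty X.Modules := fun M : X.Modules => Coh.IsCoh M

variable {X}

lemma isQuasicoherent_of_isZero (Z : X.Modules) (hZ : IsZero Z) : Z.IsQuasicoherent := by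
  haveI : (Coh.structureModule X).IsQuasicoherent :=
    Groth.Agent.H44.isQuasicoherent_structureModule
  have h1 : (kernel (𝟙 (Coh.structureModule X))).IsQuasicoherent :=
    Groth.Agent.H12.QCohAbelian.isQuasicoherent_kernel _
  exact Groth.Agent.H12.QCohAbelian.isQuasicoherent_of_iso
    ((isZero_kernel_of_mono (𝟙 (Coh.structureModule X))).iso hZ)

lemma isCoh_of_isZero (Z : X.Modules) (hZ : IsZero Z) : Coh.IsCoh Z := by
  haveI hq : Z.IsQuasicoherent := isQuasicoherent_of_isZero Z hZ
  refine ⟨hq, Groth.Agent.H71.QCoh.isFiniteType_of_finite_sections Z (fun V => ?_)⟩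
  haveI : Subsingleton Γ(Z, V.1) :=
    ⟨fun a b => by
      rw [Groth.Agent.H30.QCohLoc.eq_zero_of_isZero' Z hZ V.1 a,
        Groth.Agent.H30.QCohLoc.eq_zero_of_isZero' Z hZ V.1 b]⟩
  infer_instance

lemma isCoh_of_iso {M N : X.Modules} (e : M ≅ N) (h : Coh.IsCoh M) : Coh.IsCoh N := by
  haveI : M.IsQuasicoherent := h.1
  haveI hN : N.IsQuasicoherent := Groth.Agent.H12.QCohAbelian.isQuasicoherent_of_iso e
  haveI : IsIso e.hom := inferInstance
  exact ⟨hN, Groth.Agent.H12.QCohEpi.isFiniteType_of_epi e.hom h.2⟩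

/-! ### quasi-coherent -/

lemma qc_iff (M : X.Modules) : qcP X M ↔ M.IsQuasicoherent := Iff.rfl

lemma qc_iso : (qcP X).IsClosedUnderIsomorphisms where
  of_iso {M N} e h := by
    haveI : M.IsQuasicoherent := h
    exact Groth.Agent.H12.QCohAbelian.isQuasicoherent_of_iso e

lemma qc_zero : (qcP X).ContainsZero where
  exists_zero := ⟨0, isZero_zero _, isQuasicoherent_of_isZero _ (isZero_zero _)⟩

lemma qc_kernels : (qcP X).IsClosedUnderKernels where
  kernels_le := by
    rintro _ ⟨f, k, hk, hf⟩
    haveI hM := (qc_iff _).1 hf.1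
    haveI hN := (qc_iff _).1 hf.2
    haveI h1 : (kernel f).IsQuasicoherent :=
      Groth.Agent.H12.QCohAbelian.isQuasicoherent_kernel f
    have e : kernel f ≅ k.pt := IsLimit.conePointUniqueUpToIso (limit.isLimit _) hk
    exact (qc_iff _).2 (Groth.Agent.H12.QCohAbelian.isQuasicoherent_of_iso e)

lemma qc_cokernels : (qcP X).IsClosedUnderCokernels where
  cokernels_le := by
    rintro _ ⟨f, k, hk, hf⟩
    haveI hM := (qc_iff _).1 hf.1
    haveI hN := (qc_iff _).1 hf.2
    haveI h1 : (cokernel f).IsQuasicoherent :=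
      Groth.Agent.H12.QCohAbelian.isQuasicoherent_cokernel f
    have e : cokernel f ≅ k.pt :=
      IsColimit.coconePointUniqueUpToIso (colimit.isColimit _) hk
    exact (qc_iff _).2 (Groth.Agent.H12.QCohAbelian.isQuasicoherent_of_iso e)

lemma qc_binary : (qcP X).IsClosedUnderBinaryProducts where
  limitsOfShape_le := by
    rintro Z ⟨p⟩
    haveI hM : (p.diag.obj ⟨WalkingPair.left⟩).IsQuasicoherent := p.prop_diag_obj _
    haveI hN : (p.diag.obj ⟨WalkingPair.right⟩).IsQuasicoherent := p.prop_diag_obj _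
    haveI h1 := Groth.Agent.H12.QCohAbelian.isQuasicoherent_biprod
      (p.diag.obj ⟨WalkingPair.left⟩) (p.diag.obj ⟨WalkingPair.right⟩)
    have hl : IsLimit ((Cone.postcompose (diagramIsoPair p.diag).hom).obj
        ⟨Z, p.π⟩) :=
      (IsLimit.postcomposeHomEquiv (diagramIsoPair p.diag) _).symm p.isLimit
    have e : (p.diag.obj ⟨WalkingPair.left⟩) ⊞ (p.diag.obj ⟨WalkingPair.right⟩) ≅ Z :=
      IsLimit.conePointUniqueUpToIso
        (BinaryBiproduct.isLimit (p.diag.obj ⟨WalkingPair.left⟩)
          (p.diag.obj ⟨WalkingPair.right⟩)) hl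
    exact (qc_iff _).2 (Groth.Agent.H12.QCohAbelian.isQuasicoherent_of_iso e)

lemma qc_finiteProducts : (qcP X).IsClosedUnderFiniteProducts := by
  haveI := qc_iso (X := X)
  haveI := qc_zero (X := X)
  haveI := qc_binary (X := X)
  exact ObjectProperty.IsClosedUnderFiniteProducts.mk'

/-! ### coherent -/

lemma coh_iff (M : X.Modules) : cohP X M ↔ Coh.IsCoh M := Iff.rfl

lemma coh_iso : (cohP X).IsClosedUnderIsomorphisms where
  of_iso {M N} e h := isCoh_of_iso e h

lemma coh_zero : (cohP X).ContainsZero where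
  exists_zero := ⟨0, isZero_zero _, isCoh_of_isZero _ (isZero_zero _)⟩

lemma coh_kernels [IsLocallyNoetherian X] : (cohP X).IsClosedUnderKernels where
  kernels_le := by
    rintro _ ⟨f, k, hk, hf⟩
    have h1 : Coh.IsCoh (kernel f) := (Groth.Agent.S9514.result X hf.1 hf.2 f).1
    have e : kernel f ≅ k.pt := IsLimit.conePointUniqueUpToIso (limit.isLimit _) hk
    exact isCoh_of_iso e h1

lemma coh_cokernels [IsLocallyNoetherian X] : (cohP X).IsClosedUnderCokernels where
  cokernels_le := by
    rintro _ ⟨f, k, hk, hf⟩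
    have h1 : Coh.IsCoh (cokernel f) := (Groth.Agent.S9514.result X hf.1 hf.2 f).2
    have e : cokernel f ≅ k.pt :=
      IsColimit.coconePointUniqueUpToIso (colimit.isColimit _) hk
    exact isCoh_of_iso e h1

lemma isCoh_biprod (M N : X.Modules) (hM : Coh.IsCoh M) (hN : Coh.IsCoh N) :
    Coh.IsCoh (M ⊞ N) := by
  haveI := hM.1
  haveI := hN.1
  exact ⟨Groth.Agent.H12.QCohAbelian.isQuasicoherent_biprod M N,
    Groth.Agent.H12.SubSum.isFiniteType_biprod M N hM.2 hN.2⟩

lemma coh_binary : (cohP X).IsClosedUnderBinaryProducts where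
  limitsOfShape_le := by
    rintro Z ⟨p⟩
    have hM : Coh.IsCoh (p.diag.obj ⟨WalkingPair.left⟩) := p.prop_diag_obj _
    have hN : Coh.IsCoh (p.diag.obj ⟨WalkingPair.right⟩) := p.prop_diag_obj _
    have h1 := isCoh_biprod _ _ hM hN
    have hl : IsLimit ((Cone.postcompose (diagramIsoPair p.diag).hom).obj
        ⟨Z, p.π⟩) :=
      (IsLimit.postcomposeHomEquiv (diagramIsoPair p.diag) _).symm p.isLimit
    have e : (p.diag.obj ⟨WalkingPair.left⟩) ⊞ (p.diag.obj ⟨WalkingPair.right⟩) ≅ Z :=
      IsLimit.conePointUniqueUpToIso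
        (BinaryBiproduct.isLimit (p.diag.obj ⟨WalkingPair.left⟩)
          (p.diag.obj ⟨WalkingPair.right⟩)) hl
    exact isCoh_of_iso e h1

lemma coh_finiteProducts : (cohP X).IsClosedUnderFiniteProducts := by
  haveI := coh_iso (X := X)
  haveI := coh_zero (X := X)
  haveI := coh_binary (X := X)
  exact ObjectProperty.IsClosedUnderFiniteProducts.mk'

end Groth.Agent.H30.CohLoc
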