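import Mathlib
import Groth.Agent.H67.DevGen
import Groth.Agent.S0786
import Groth.Agent.H30.K0Bridge
import Groth.Agent.H30.CohLoc.Closure

/-!
# Dévissage in `K₀`: classes of coherent modules supported on a closed subscheme come from it
-/

set_option autoImplicit false
set_option linter.style.haveILetI false
universe u
open CategoryTheory Limits TopologicalSpace Opposite AlgebraicGeometry

namespace Groth.Agent.H30.CohLoc

open KZero Groth.Agent.H30.K0Bridge

variable {X X' : Scheme.{u}}

lemma killedByIdeal_pushforward_ker {Z : Scheme.{u}} (iZ : Z ⟶ X) [QuasiCompact iZ]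
    (N : Z.Modules) :
    ClSub.KilledByIdeal iZ.ker ((Scheme.Modules.pushforward iZ).obj N) := by
  intro U a ha m
  have h0 : (iZ.app U.1).hom a = 0 := by
    rw [Scheme.Hom.ker_apply] at ha
    exact ha
  change ((iZ.app U.1).hom a) • (show Γ(N, iZ ⁻¹ᵁ U.1) from m) = 0
  rw [h0, zero_smul]

lemma killedByIdeal_of_le {I I' : X.IdealSheafData} (h : I ≤ I') (M : X.Modules)
    (hk : ClSub.KilledByIdeal I' M) : ClSub.KilledByIdeal I M :=
  fun U a ha m => hk U a (h U ha) m

lemma ker_le_ker (i : X' ⟶ X) [QuasiCompact i] {Z : Scheme.{u}} (iZ : Z ⟶ X) [QuasiCompact iZ]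
    [IsReduced Z] (h : Set.range iZ ⊆ Set.range i) : i.ker ≤ iZ.ker := by
  intro U a ha
  rw [Scheme.Hom.ker_apply] at ha ⊢
  have ha0 : (i.app U.1).hom a = 0 := ha
  change (iZ.app U.1).hom a = 0
  apply AlgebraicGeometry.eq_zero_of_basicOpen_eq_bot
  rw [← Scheme.preimage_basicOpen]
  ext z
  simp only [Opens.coe_bot, Set.mem_empty_iff_false, iff_false]
  intro hz
  obtain ⟨x', hx'⟩ := h ⟨z, rfl⟩
  have hx'' : x' ∈ i ⁻¹ᵁ (X.basicOpen a) := by
    change i x' ∈ X.basicOpen a
    rw [hx']
    exact hz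
  rw [Scheme.preimage_basicOpen, ha0, Scheme.basicOpen_zero] at hx''
  exact hx''

section Dev

attribute [local instance] coh_iso coh_zero

variable [IsNoetherian X] (i : X' ⟶ X) [IsClosedImmersion i]
  [(Scheme.Modules.pushforward i).Additive] [PreservesFiniteLimits (Scheme.Modules.pushforward i)]
  [PreservesFiniteColimits (Scheme.Modules.pushforward i)]
  (hi : ∀ M : X'.Modules, Coh.IsCoh M → Coh.IsCoh ((Scheme.Modules.pushforward i).obj M))

/-- the class of a coherent module supported on the closed subscheme `X'` comes from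
`K₀(Coh X')` -/
theorem clSub_mem_range (M : X.Modules) (hM : Coh.IsCoh M)
    (hsupp : CohB1.support M ⊆ Set.range i) :
    clSub (cohP X) M ∈
      (SGA6.mapSub (Scheme.Modules.pushforward i) (cohP X') (cohP X) hi).range := by
  refine Groth.Agent.H67.Dev.devissage_rel (Set.range i) i.isClosedEmbedding.isClosed_range
    (fun M : X.Modules => Coh.IsCoh M → clSub (cohP X) M ∈
      (SGA6.mapSub (Scheme.Modules.pushforward i) (cohP X') (cohP X) hi).range)
    ?_ ?_ ?_ ?_ M hM hsupp hM
  · rintro M N ⟨e⟩ h hN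
    have hM' : Coh.IsCoh M := isCoh_of_iso e.symm hN
    rw [← clSub_iso (cohP X) e hM']
    exact h hM'
  · intro M hM0 _
    rw [clSub_isZero (cohP X) hM0]
    exact AddSubgroup.zero_mem _
  · intro S hS c1 c2 c3 _ p1 p3 _
    rw [clSub_shortExact (cohP X) S hS c1 c2 c3]
    exact AddSubgroup.add_mem _ (p1 c1) (p3 c3)
  · intro Z iZ _ _ hrange _ I ι _ hI hcoh
    have hk : ClSub.KilledByIdeal i.ker ((Coh.push iZ).obj I) :=
      killedByIdeal_of_le (ker_le_ker i iZ hrange) _ (killedByIdeal_pushforward_ker iZ I)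
    obtain ⟨G, hG, ⟨e⟩⟩ := Groth.Agent.S0786.result i ((Coh.push iZ).obj I) hcoh hk
    rw [← clSub_iso (cohP X) e (hi G hG), ← mapSub_clSub (Scheme.Modules.pushforward i)
      (cohP X') (cohP X) hi hG]
    exact ⟨_, rfl⟩

end Dev

end Groth.Agent.H30.CohLoc
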