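import Mathlib
import Groth.Agent.H30.NilDev.Adj
import Groth.Agent.H30.CohLoc.K0Dev
import Groth.Agent.H31.ClosedCoR1
import Groth.Agent.S9514

/-!
# `K₀(Coh X') ≅ K₀(Coh X)` for a closed immersion `X' → X` which is surjective on points
-/

set_option autoImplicit false
set_option linter.style.haveILetI false
universe u
open CategoryTheory Limits TopologicalSpace Opposite AlgebraicGeometry

namespace Groth.Agent.H30.CohLoc

open KZero Groth.Agent.H30.K0Bridge Groth.Agent.H30.NilDev

variable {X X' : Scheme.{u}}

lemma killedByIdeal_of_mono (I : X.IdealSheafData) {N M : X.Modules} (f : N ⟶ M) [Mono f]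
    (h : ClSub.KilledByIdeal I M) : ClSub.KilledByIdeal I N := by
  intro U a ha n
  apply Groth.Agent.H12.QCohAbelian.app_injective_of_mono f U.1
  have h1 : f.app U.1 (a • (show Γ(N, U.1) from n)) = a • f.app U.1 n :=
    Scheme.Modules.Hom.app_smul f a n
  have h2 : a • f.app U.1 n = 0 := h U a ha _
  exact (h1.trans h2).trans (map_zero _).symm

section Nil

attribute [local instance] coh_iso coh_zero

variable [IsNoetherian X] (i : X' ⟶ X) [IsClosedImmersion i]
  [(Scheme.Modules.pushforward i).Additive] [PreservesFiniteLimits (Scheme.Modules.pushforward i)]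
  [PreservesFiniteColimits (Scheme.Modules.pushforward i)]
  (hi : ∀ M : X'.Modules, Coh.IsCoh M → Coh.IsCoh ((Scheme.Modules.pushforward i).obj M))

omit [AlgebraicGeometry.IsNoetherian X] [(Scheme.Modules.pushforward i).Additive]
  [PreservesFiniteLimits (Scheme.Modules.pushforward i)]
  [PreservesFiniteColimits (Scheme.Modules.pushforward i)] in
lemma isIso_unit_of_killed (N : X.Modules) (hN : Coh.IsCoh N)
    (hk : ClSub.KilledByIdeal i.ker N) :
    IsIso ((Scheme.Modules.pullbackPushforwardAdjunction i).unit.app N) := by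
  haveI : N.IsQuasicoherent := hN.1
  haveI : SheafOfModules.IsFiniteType (R := X.ringCatSheaf) N := hN.2
  exact Groth.Agent.H71.QCoh.isIso_unit_app_of_killed i N
    (fun V a ha m => hk V a (by rw [Scheme.Hom.ker_apply]; exact ha) m)

omit [(Scheme.Modules.pushforward i).Additive]
  [PreservesFiniteLimits (Scheme.Modules.pushforward i)]
  [PreservesFiniteColimits (Scheme.Modules.pushforward i)] in
include hi in
lemma adjHyp : AdjHyp (Scheme.Modules.pullbackPushforwardAdjunction i) (cohP X') (cohP X) where
  zero Z hZ := isCoh_of_isZero Z hZ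
  iso e h := isCoh_of_iso e h
  ker f hM hN := (Groth.Agent.S9514.result X hM hN f).1
  coker f hM hN := (Groth.Agent.S9514.result X hM hN f).2
  hF := hi
  hG M hM := by
    haveI : M.IsQuasicoherent := hM.1
    haveI : SheafOfModules.IsFiniteType (R := X.ringCatSheaf) M := hM.2
    exact ⟨inferInstance, inferInstance⟩
  isoSub {N M} f _ hN hM hiso := by
    haveI := hiso
    have hk0 : ClSub.KilledByIdeal i.ker ((Scheme.Modules.pushforward i).obj
        ((Scheme.Modules.pullback i).obj M)) := killedByIdeal_pushforward_ker i _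
    have hkM : ClSub.KilledByIdeal i.ker M :=
      killedByIdeal_of_mono i.ker ((Scheme.Modules.pullbackPushforwardAdjunction i).unit.app M) hk0
    exact isIso_unit_of_killed i N hN (killedByIdeal_of_mono i.ker f hkM)

variable [Surjective i]

include hi in
theorem exists_nil (M : X.Modules) (hM : Coh.IsCoh M) :
    ∃ n, nil (Scheme.Modules.pullback i ⋙ Scheme.Modules.pushforward i)
      (Scheme.Modules.pullbackPushforwardAdjunction i).unit n M := by
  let adj := Scheme.Modules.pullbackPushforwardAdjunction i
  haveI := preservesZeroMorphisms_T adj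
  haveI := preservesFiniteColimits_T adj
  have hyp := hyp_of_adjHyp (adjHyp i hi)
  have huniv : Set.range i = Set.univ := Set.range_eq_univ.mpr i.surjective
  refine Groth.Agent.H67.Dev.devissage_rel (Set.univ) isClosed_univ
    (fun M : X.Modules => Coh.IsCoh M →
      ∃ n, nil (Scheme.Modules.pullback i ⋙ Scheme.Modules.pushforward i) adj.unit n M)
    ?_ ?_ ?_ ?_ M hM (Set.subset_univ _) hM
  · rintro M N ⟨e⟩ h hN
    obtain ⟨n, hn⟩ := h (isCoh_of_iso e.symm hN)
    exact ⟨n, nil_of_mono _ _ n e.inv hn⟩
  · intro M hM0 _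
    exact ⟨0, hM0⟩
  · intro S hS c1 c2 c3 _ p1 p3 _
    obtain ⟨a, ha⟩ := p1 c1
    obtain ⟨b, hb⟩ := p3 c3
    exact ⟨a + b, nil_ext hyp b a S hS c1 c2 c3 ha hb⟩
  · intro Z iZ _ _ _ _ I ι _ hI hcoh
    have hk : ClSub.KilledByIdeal i.ker ((Coh.push iZ).obj I) :=
      killedByIdeal_of_le (ker_le_ker i iZ (by rw [huniv]; exact Set.subset_univ _)) _
        (killedByIdeal_pushforward_ker iZ I)
    haveI : IsIso (ηa (Scheme.Modules.pullback i ⋙ Scheme.Modules.pushforward i) adj.unit
        ((Coh.push iZ).obj I)) := isIso_unit_of_killed i _ hcoh hk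
    exact ⟨1, isZero_r_of_isIso _ _⟩

include hi in
/-- for a closed immersion which is surjective on points, `i_*` induces a bijection on `K₀` of
coherent modules -/
theorem k0_bijective :
    Function.Bijective (SGA6.mapSub (Scheme.Modules.pushforward i) (cohP X') (cohP X) hi) := by
  constructor
  · exact mapSub_injective (adjHyp i hi) (exists_nil i hi)
  · intro y
    have huniv : Set.range i = Set.univ := Set.range_eq_univ.mpr i.surjective
    induction y using K0sub_induction (cohP X) with
    | zero => exact ⟨0, map_zero _⟩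
    | cl M hM =>
      exact clSub_mem_range i hi M hM (by rw [huniv]; exact Set.subset_univ _)
    | neg x h => obtain ⟨a, rfl⟩ := h; exact ⟨-a, map_neg _ _⟩
    | add x y hx hy =>
      obtain ⟨a, rfl⟩ := hx; obtain ⟨b, rfl⟩ := hy; exact ⟨a + b, map_add _ _ _⟩

end Nil

end Groth.Agent.H30.CohLoc
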