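import Mathlib
import Groth.Agent.H30.CohLoc.Closure
import Groth.Agent.H30.QCohLoc
import Groth.Agent.S13989
import Groth.Agent.S9831

/-!
# `Coh(X)/Coh_Z(X) ≃ Coh(U)`: restriction of coherent modules to an open of a Noetherian scheme
is a localization functor
-/

set_option autoImplicit false
set_option linter.style.haveILetI false
universe u
open CategoryTheory Limits TopologicalSpace Opposite AlgebraicGeometry ZeroObject

namespace Groth.Agent.H30.CohLoc

section General

variable {C : Type*} [Category C] [Abelian C] (P : ObjectProperty C)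
  [P.ContainsZero] [P.IsClosedUnderKernels] [P.IsClosedUnderCokernels]
  [P.IsClosedUnderFiniteProducts]

lemma preservesFiniteLimits_ι : PreservesFiniteLimits P.ι :=
  ((Functor.preservesFiniteLimits_tfae P.ι).out 2 3).1 (fun _ _ f => P.preservesKernels_ι f)

lemma preservesFiniteColimits_ι : PreservesFiniteColimits P.ι :=
  ((Functor.preservesFiniteColimits_tfae P.ι).out 2 3).1 (fun _ _ f => P.preservesCokernels_ι f)

lemma preservesFiniteLimits_of_comp_ι {D : Type*} [Category D] (F : D ⥤ P.FullSubcategory)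
    [PreservesFiniteLimits (F ⋙ P.ι)] : PreservesFiniteLimits F :=
  ⟨fun J _ _ => preservesLimitsOfShape_of_reflects_of_preserves F P.ι⟩

lemma preservesFiniteColimits_of_comp_ι {D : Type*} [Category D] (F : D ⥤ P.FullSubcategory)
    [PreservesFiniteColimits (F ⋙ P.ι)] : PreservesFiniteColimits F :=
  ⟨fun J _ _ => preservesColimitsOfShape_of_reflects_of_preserves F P.ι⟩

end General

section Kernel

variable {A B : Type*} [Category A] [Abelian A] [Category B] [Abelian B]
  (G : A ⥤ B) [PreservesFiniteLimits G] [PreservesFiniteColimits G]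

/-- for an exact functor, the morphisms which are isomorphisms modulo its kernel are the
morphisms it inverts -/
lemma isoModSerre_kernel_iff {M N : A} (f : M ⟶ N) :
    (ObjectProperty.inverseImage (IsZero (C := B)) G).isoModSerre f ↔ IsIso (G.map f) := by
  have ek : G.obj (kernel f) ≅ kernel (G.map f) := PreservesKernel.iso G f
  have ec : G.obj (cokernel f) ≅ cokernel (G.map f) := PreservesCokernel.iso G f
  constructor
  · rintro ⟨h1, h2⟩
    have h1' : IsZero (G.obj (kernel f)) := h1
    have h2' : IsZero (G.obj (cokernel f)) := h2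
    have hm : Mono (G.map f) := Preadditive.mono_of_isZero_kernel _ (IsZero.of_iso h1' ek.symm)
    have he : Epi (G.map f) := Preadditive.epi_of_isZero_cokernel _ (IsZero.of_iso h2' ec.symm)
    exact isIso_of_mono_of_epi _
  · intro h
    exact ⟨IsZero.of_iso (isZero_kernel_of_mono _) ek, IsZero.of_iso (isZero_cokernel_of_epi _) ec⟩

end Kernel

section Scheme

attribute [local instance] qc_iso qc_zero qc_kernels qc_cokernels qc_finiteProducts
  coh_iso coh_zero coh_kernels coh_cokernels coh_finiteProducts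

variable (X : Scheme.{u})

noncomputable instance : Abelian (QCohCat.QCoh X) :=
  inferInstanceAs (Abelian (qcP X).FullSubcategory)

instance : PreservesFiniteLimits (ObjectProperty.ι (QCohCat.isQCoh X)) :=
  preservesFiniteLimits_ι (qcP X)

instance : PreservesFiniteColimits (ObjectProperty.ι (QCohCat.isQCoh X)) :=
  preservesFiniteColimits_ι (qcP X)

variable (U : X.Opens)

instance : PreservesFiniteLimits (QCohLoc.G X U) := by
  haveI : PreservesFiniteLimits (Scheme.Modules.restrictFunctor U.ι) :=
    Groth.Agent.H12.RestrictLim.preservesFiniteLimits_restrictFunctor U.ι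
  haveI : PreservesFiniteLimits (QCohLoc.G X U ⋙ (qcP (↑U : Scheme.{u})).ι) :=
    inferInstanceAs (PreservesFiniteLimits
      (ObjectProperty.ι (QCohCat.isQCoh X) ⋙ Scheme.Modules.restrictFunctor U.ι))
  exact preservesFiniteLimits_of_comp_ι (qcP (↑U : Scheme.{u})) _

instance : PreservesFiniteColimits (QCohLoc.G X U) := by
  haveI : PreservesColimitsOfSize.{u, u} (Scheme.Modules.restrictFunctor U.ι) :=
    (Scheme.Modules.restrictAdjunction U.ι).leftAdjoint_preservesColimits
  haveI : PreservesFiniteColimits (Scheme.Modules.restrictFunctor U.ι) :=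
    PreservesColimitsOfSize.preservesFiniteColimits _
  haveI : PreservesFiniteColimits (QCohLoc.G X U ⋙ (qcP (↑U : Scheme.{u})).ι) :=
    inferInstanceAs (PreservesFiniteColimits
      (ObjectProperty.ι (QCohCat.isQCoh X) ⋙ Scheme.Modules.restrictFunctor U.ι))
  exact preservesFiniteColimits_of_comp_ι (qcP (↑U : Scheme.{u})) _

/-- the Serre class of quasi-coherent modules vanishing on `U` -/
abbrev J : ObjectProperty (QCohCat.QCoh X) :=
  ObjectProperty.inverseImage (IsZero (C := QCohCat.QCoh (↑U : Scheme.{u}))) (QCohLoc.G X U)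

lemma isoModSerre_iff_supp {M N : QCohCat.QCoh X} (f : M ⟶ N) :
    (J X U).isoModSerre f ↔
      (CohB1.support (kernel f.hom) ⊆ (↑U : Set X)ᶜ ∧
        CohB1.support (cokernel f.hom) ⊆ (↑U : Set X)ᶜ) := by
  rw [isoModSerre_kernel_iff]
  have h1 := QCohLoc.isIso_restrict_map_iff U.ι f.hom
  rw [Scheme.Opens.opensRange_ι] at h1
  rw [← h1]
  constructor
  · intro hi
    exact (inferInstance : IsIso ((ObjectProperty.ι _).map ((QCohLoc.G X U).map f)))
  · intro hi
    haveI : IsIso ((ObjectProperty.ι _).map ((QCohLoc.G X U).map f)) := hi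
    exact isIso_of_fully_faithful (ObjectProperty.ι (QCohCat.isQCoh (↑U : Scheme.{u}))) _

instance isLocalization_G' [QuasiCompact U.ι] :
    (QCohLoc.G X U).IsLocalization (J X U).isoModSerre := by
  have h := QCohLoc.isLocalization_G X U
  have hW : (fun (A B : QCohCat.QCoh X) (f : A ⟶ B) =>
        CohB1.support (kernel f.hom) ⊆ (↑U : Set X)ᶜ ∧
          CohB1.support (cokernel f.hom) ⊆ (↑U : Set X)ᶜ) = (J X U).isoModSerre := by
    ext A B f
    exact (isoModSerre_iff_supp X U f).symm
  rw [hW] at h
  exact h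

/-! ### the coherent side -/

/-- `Coh(X)` -/
abbrev CohX : Type (u + 1) := (cohP X).FullSubcategory

lemma cohP_le_qcP : cohP X ≤ qcP X := fun _ h => h.1

/-- the inclusion `Coh(X) ⥤ QCoh(X)` -/
abbrev incl : CohX X ⥤ QCohCat.QCoh X := ObjectProperty.ιOfLE (cohP_le_qcP X)

variable [IsLocallyNoetherian X]

instance : PreservesFiniteLimits (ObjectProperty.ι (cohP X)) :=
  preservesFiniteLimits_ι (cohP X)

instance : PreservesFiniteColimits (ObjectProperty.ι (cohP X)) :=
  preservesFiniteColimits_ι (cohP X)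

instance : PreservesFiniteLimits (incl X) := by
  haveI : PreservesFiniteLimits (incl X ⋙ (qcP X).ι) :=
    inferInstanceAs (PreservesFiniteLimits (ObjectProperty.ι (cohP X)))
  exact preservesFiniteLimits_of_comp_ι (qcP X) _

instance : PreservesFiniteColimits (incl X) := by
  haveI : PreservesFiniteColimits (incl X ⋙ (qcP X).ι) :=
    inferInstanceAs (PreservesFiniteColimits (ObjectProperty.ι (cohP X)))
  exact preservesFiniteColimits_of_comp_ι (qcP X) _

lemma essImage_incl (N : QCohCat.QCoh X) (h : Coh.IsCoh N.obj) : (incl X).essImage N :=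
  ⟨⟨N.obj, h⟩, ⟨(ObjectProperty.fullyFaithfulι (qcP X)).preimageIso (Iso.refl N.obj)⟩⟩

lemma hquot (M : CohX X) (N : QCohCat.QCoh X) (p : (incl X).obj M ⟶ N) (hp : Epi p) :
    (incl X).essImage N := by
  refine essImage_incl X N ?_
  haveI : M.obj.IsQuasicoherent := M.property.1
  haveI : ((incl X).obj M).obj.IsQuasicoherent := M.property.1
  haveI : N.obj.IsQuasicoherent := N.property
  haveI : Epi p.hom := inferInstanceAs (Epi ((ObjectProperty.ι (qcP X)).map p))
  exact ⟨N.property, Groth.Agent.H12.QCohEpi.isFiniteType_of_epi p.hom M.property.2⟩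

lemma hsub (M : CohX X) (N : QCohCat.QCoh X) (f : N ⟶ (incl X).obj M) (hf : Mono f) :
    (incl X).essImage N := by
  refine essImage_incl X N ?_
  haveI : M.obj.IsQuasicoherent := M.property.1
  haveI : ((incl X).obj M).obj.IsQuasicoherent := M.property.1
  haveI : N.obj.IsQuasicoherent := N.property
  haveI : Mono f.hom := inferInstanceAs (Mono ((ObjectProperty.ι (qcP X)).map f))
  haveI hc : (cokernel f.hom).IsQuasicoherent :=
    Groth.Agent.H12.QCohAbelian.isQuasicoherent_cokernel f.hom
  have hC : Coh.IsCoh (cokernel f.hom) :=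
    ⟨hc, Groth.Agent.H12.QCohEpi.isFiniteType_of_epi (cokernel.π f.hom) M.property.2⟩
  have hK : Coh.IsCoh (kernel (cokernel.π f.hom)) :=
    (Groth.Agent.S9514.result X M.property hC (cokernel.π f.hom)).1
  have hl : IsLimit (KernelFork.ofι f.hom (cokernel.condition f.hom)) :=
    Abelian.monoIsKernelOfCokernel _ (colimit.isColimit _)
  exact isCoh_of_iso (IsLimit.conePointUniqueUpToIso (limit.isLimit _) hl) hK

/-! ### the main theorem -/

section Main

variable (hres : ∀ M : X.Modules, Coh.IsCoh M →
  Coh.IsCoh ((Scheme.Modules.restrictFunctor U.ι).obj M))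

/-- restriction `Coh(X) ⥤ Coh(U)` -/
noncomputable abbrev R : CohX X ⥤ CohX (↑U : Scheme.{u}) :=
  ObjectProperty.lift (cohP (↑U : Scheme.{u}))
    (ObjectProperty.ι (cohP X) ⋙ Scheme.Modules.restrictFunctor U.ι)
    (fun M => hres M.obj M.property)

/-- the class of morphisms of coherent modules which are isomorphisms over `U` -/
abbrev W' : MorphismProperty (CohX X) :=
  (ObjectProperty.inverseImage (J X U) (incl X)).isoModSerre

lemma W'_iff {M N : CohX X} (f : M ⟶ N) :
    W' X U f ↔ IsIso ((Scheme.Modules.restrictFunctor U.ι).map f.hom) := by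
  rw [W', Groth.Agent.S13989.isoModSerre_inverseImage_iff (incl X) (J X U) f,
    isoModSerre_kernel_iff]
  constructor
  · intro hi
    exact (inferInstance : IsIso ((ObjectProperty.ι _).map ((QCohLoc.G X U).map ((incl X).map f))))
  · intro hi
    haveI : IsIso ((ObjectProperty.ι _).map ((QCohLoc.G X U).map ((incl X).map f))) := hi
    exact isIso_of_fully_faithful (ObjectProperty.ι (QCohCat.isQCoh (↑U : Scheme.{u}))) _

lemma W'_iff_supp {M N : CohX X} (f : M ⟶ N) :
    W' X U f ↔ (CohB1.support (kernel f.hom) ⊆ (↑U : Set X)ᶜ ∧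
        CohB1.support (cokernel f.hom) ⊆ (↑U : Set X)ᶜ) := by
  rw [W'_iff]
  have h1 := QCohLoc.isIso_restrict_map_iff U.ι f.hom
  rw [Scheme.Opens.opensRange_ι] at h1
  exact h1

lemma isInvertedBy_R : (W' X U).IsInvertedBy (R X U hres) := by
  intro M N f hf
  rw [W'_iff] at hf
  haveI : IsIso ((ObjectProperty.ι (cohP (↑U : Scheme.{u}))).map ((R X U hres).map f)) := hf
  exact isIso_of_fully_faithful (ObjectProperty.ι (cohP (↑U : Scheme.{u}))) _

/-- the induced functor `Coh(X)/Coh_Z(X) ⥤ Coh(U)` -/
noncomputable abbrev Φ' : (W' X U).Localization ⥤ CohX (↑U : Scheme.{u}) :=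
  Localization.lift (R X U hres) (isInvertedBy_R X U hres) (W' X U).Q

/-- compatibility of the two restriction functors with the inclusions -/
noncomputable def e₀ : R X U hres ⋙ incl (↑U : Scheme.{u}) ≅ incl X ⋙ QCohLoc.G X U :=
  Iso.refl _

noncomputable def e :
    (W' X U).Q ⋙ (Φ' X U hres ⋙ incl (↑U : Scheme.{u})) ≅ incl X ⋙ QCohLoc.G X U :=
  (Functor.associator _ _ _).symm ≪≫
    Functor.isoWhiskerRight (Localization.fac (R X U hres) (isInvertedBy_R X U hres) (W' X U).Q)
      (incl (↑U : Scheme.{u})) ≪≫ e₀ X U hres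

lemma full_faithful_Φ' : (Φ' X U hres).Full ∧ (Φ' X U hres).Faithful := by
  obtain ⟨h1, h2⟩ := Groth.Agent.S13989.result (incl X) (J X U)
    (fun M N f hf _ => hsub X M N f hf) (fun M N p hp _ => hquot X M N p hp)
    (QCohLoc.G X U) (W' X U).Q (Φ' X U hres ⋙ incl (↑U : Scheme.{u})) (e X U hres)
  exact ⟨Functor.Full.of_comp_faithful (Φ' X U hres) (incl (↑U : Scheme.{u})),
    Functor.Faithful.of_comp (Φ' X U hres) (incl (↑U : Scheme.{u}))⟩

end Main

section Final

variable [IsNoetherian X] (hres : ∀ M : X.Modules, Coh.IsCoh M →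
  Coh.IsCoh ((Scheme.Modules.restrictFunctor U.ι).obj M))

lemma essSurj_Φ' : (Φ' X U hres).EssSurj where
  mem_essImage N := by
    haveI : N.obj.IsQuasicoherent := N.property.1
    obtain ⟨G', hq, hft, ⟨iso⟩⟩ := Groth.Agent.S9831.result (X := X) U
      (TopologicalSpace.NoetherianSpace.isCompact _) N.obj N.property.2
    let M : CohX X := ⟨G', ⟨hq, hft⟩⟩
    have i1 : (R X U hres).obj M ≅ N :=
      (ObjectProperty.fullyFaithfulι (cohP (↑U : Scheme.{u}))).preimageIso iso
    exact ⟨(W' X U).Q.obj M,
      ⟨(Localization.fac (R X U hres) (isInvertedBy_R X U hres) (W' X U).Q).app M ≪≫ i1⟩⟩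

theorem isLocalization_R : (R X U hres).IsLocalization (W' X U) := by
  obtain ⟨h1, h2⟩ := full_faithful_Φ' X U hres
  haveI := essSurj_Φ' X U hres
  haveI : (Φ' X U hres).IsEquivalence := { }
  exact Functor.IsLocalization.of_equivalence_target (W' X U).Q (W' X U) (R X U hres)
    (Φ' X U hres).asEquivalence
    (Localization.fac (R X U hres) (isInvertedBy_R X U hres) (W' X U).Q)

theorem main :
    (ObjectProperty.lift (fun N : (↑U : Scheme.{u}).Modules => Coh.IsCoh N)
        (ObjectProperty.ι (fun M : X.Modules => Coh.IsCoh M) ⋙ Scheme.Modules.restrictFunctor U.ι)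
        (fun M => hres M.obj M.property)).IsLocalization
      (fun (A B : ObjectProperty.FullSubcategory (fun M : X.Modules => Coh.IsCoh M)) (f : A ⟶ B) =>
        CohB1.support (kernel f.hom) ⊆ (↑U : Set X)ᶜ ∧
          CohB1.support (cokernel f.hom) ⊆ (↑U : Set X)ᶜ) := by
  have h := isLocalization_R X U hres
  have hW : (fun (A B : ObjectProperty.FullSubcategory (fun M : X.Modules => Coh.IsCoh M))
      (f : A ⟶ B) =>
        CohB1.support (kernel f.hom) ⊆ (↑U : Set X)ᶜ ∧
          CohB1.support (cokernel f.hom) ⊆ (↑U : Set X)ᶜ) = W' X U := by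
    ext A B f
    exact (W'_iff_supp X U f).symm
  rw [hW]
  exact h

end Final

end Scheme

end Groth.Agent.H30.CohLoc
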