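import Mathlib
import Groth.Agent.H30.CohLoc.Main
import Groth.Agent.H30.K0Bridge
import Groth.Agent.H86.KS2
import Groth.Agent.H12.CohOpen

/-!
# The `K₀` localization sequence for coherent modules: restriction to an open subscheme
-/

set_option autoImplicit false
set_option linter.style.haveILetI false
universe u
open CategoryTheory Limits TopologicalSpace Opposite AlgebraicGeometry

namespace Groth.Agent.H30.CohLoc

open KZero Groth.Agent.H30.K0Bridge Groth.Agent.H86.KS

attribute [local instance] qc_iso qc_zero qc_kernels qc_cokernels qc_finiteProducts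
  coh_iso coh_zero coh_kernels coh_cokernels coh_finiteProducts

section Exact

variable (X : Scheme.{u}) [IsLocallyNoetherian X] (V : X.Opens)
  (hres : ∀ M : X.Modules, Coh.IsCoh M →
    Coh.IsCoh ((Scheme.Modules.restrictFunctor V.ι).obj M))

instance : PreservesFiniteLimits (R X V hres) := by
  haveI : PreservesFiniteLimits (Scheme.Modules.restrictFunctor V.ι) :=
    Groth.Agent.H12.RestrictLim.preservesFiniteLimits_restrictFunctor V.ι
  haveI : PreservesFiniteLimits (R X V hres ⋙ (cohP (↑V : Scheme.{u})).ι) :=
    inferInstanceAs (PreservesFiniteLimits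
      (ObjectProperty.ι (cohP X) ⋙ Scheme.Modules.restrictFunctor V.ι))
  exact preservesFiniteLimits_of_comp_ι (cohP (↑V : Scheme.{u})) _

instance : PreservesFiniteColimits (R X V hres) := by
  haveI : PreservesColimitsOfSize.{u, u} (Scheme.Modules.restrictFunctor V.ι) :=
    (Scheme.Modules.restrictAdjunction V.ι).leftAdjoint_preservesColimits
  haveI : PreservesFiniteColimits (Scheme.Modules.restrictFunctor V.ι) :=
    PreservesColimitsOfSize.preservesFiniteColimits _
  haveI : PreservesFiniteColimits (R X V hres ⋙ (cohP (↑V : Scheme.{u})).ι) :=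
    inferInstanceAs (PreservesFiniteColimits
      (ObjectProperty.ι (cohP X) ⋙ Scheme.Modules.restrictFunctor V.ι))
  exact preservesFiniteColimits_of_comp_ι (cohP (↑V : Scheme.{u})) _

instance : (R X V hres).Additive := Functor.additive_of_preserves_binary_products _

end Exact

section K0

variable (X : Scheme.{u}) [IsNoetherian X] (V : X.Opens)
  (hres : ∀ M : X.Modules, Coh.IsCoh M →
    Coh.IsCoh ((Scheme.Modules.restrictFunctor V.ι).obj M))
  [PreservesFiniteLimits (Scheme.Modules.restrictFunctor V.ι)]

/-- coherent modules vanishing on `V`, as a Serre class of `Coh(X)` -/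
abbrev PV : ObjectProperty (CohX X) := ObjectProperty.inverseImage (J X V) (incl X)

lemma PV_iff (M : CohX X) : PV X V M ↔ CohB1.support M.obj ⊆ (↑V : Set X)ᶜ := by
  have h1 := QCohLoc.support_subset_compl_iff V.ι M.obj
  rw [Scheme.Opens.opensRange_ι] at h1
  rw [h1]
  change IsZero ((QCohLoc.G X V).obj ((incl X).obj M)) ↔ _
  constructor
  · intro h
    exact (ObjectProperty.ι (QCohCat.isQCoh (↑V : Scheme.{u}))).map_isZero h
  · intro h
    rw [IsZero.iff_id_eq_zero] at h ⊢
    apply (ObjectProperty.ι (QCohCat.isQCoh (↑V : Scheme.{u}))).map_injective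
    rw [CategoryTheory.Functor.map_id, CategoryTheory.Functor.map_zero]
    exact h

/-- `ρ_V : K₀(Coh X) → K₀(Coh V)` -/
noncomputable abbrev rho : K0sub (cohP X) →+ K0sub (cohP (↑V : Scheme.{u})) :=
  SGA6.mapSub (Scheme.Modules.restrictFunctor V.ι) (cohP X) (cohP (↑V : Scheme.{u})) hres

lemma compat (y : K0 (CohX X)) :
    beta (cohP (↑V : Scheme.{u})) (lamHom (R X V hres) y) = rho X V hres (beta (cohP X) y) := by
  induction y using K0_induction with
  | zero => simp
  | cl M =>
    rw [lamHom_cl, beta_cl, beta_cl, mapSub_clSub _ _ _ _ M.property]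
    rfl
  | neg x h => rw [map_neg, map_neg, map_neg, map_neg, h]
  | add x y hx hy => rw [map_add, map_add, map_add, map_add, hx, hy]

lemma rho_surjective : Function.Surjective (rho X V hres) := by
  haveI := isLocalization_R X V hres
  intro z
  obtain ⟨w, hw⟩ := beta_surjective (cohP (↑V : Scheme.{u})) z
  obtain ⟨y, hy⟩ := lamHom_surjective (PV X V) (R X V hres) w
  exact ⟨beta (cohP X) y, by rw [← compat, hy, hw]⟩

/-- an element of the kernel of `ρ_V` is a combination of classes of coherent modules
supported off `V` -/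
lemma mem_closure_of_mem_ker (x : K0sub (cohP X)) (hx : rho X V hres x = 0) :
    x ∈ AddSubgroup.closure {z | ∃ (M : X.Modules) (_ : Coh.IsCoh M),
      CohB1.support M ⊆ (↑V : Set X)ᶜ ∧ z = clSub (cohP X) M} := by
  haveI := isLocalization_R X V hres
  obtain ⟨y, rfl⟩ := beta_surjective (cohP X) x
  rw [← compat] at hx
  have hy : lamHom (R X V hres) y = 0 :=
    beta_injective (cohP (↑V : Scheme.{u})) (by rw [hx, map_zero])
  have hy' : y ∈ (lamHom (R X V hres)).ker := hy
  rw [lamHom_ker (PV X V) (R X V hres)] at hy'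
  obtain ⟨z, rfl⟩ := hy'
  clear hx hy
  induction z using Groth.Agent.H86.KS.K0sub_induction (PV X V) with
  | zero => simp
  | cl M hM =>
    rw [iotaHom_clSub _ hM, beta_cl]
    exact AddSubgroup.subset_closure ⟨M.obj, M.property, (PV_iff X V M).1 hM, rfl⟩
  | neg x h => rw [map_neg, map_neg]; exact AddSubgroup.neg_mem _ h
  | add x y hx hy => rw [map_add, map_add]; exact AddSubgroup.add_mem _ hx hy

end K0

end Groth.Agent.H30.CohLoc
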