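import Mathlib
import Groth.Agent.H30.K0Bridge

/-!
# The class of a finite power in `K₀`
-/

set_option autoImplicit false
set_option linter.style.haveILetI false
universe v u
open CategoryTheory Limits

namespace Groth.Agent.H30.K0Bridge

open KZero

variable {A : Type u} [Category.{v} A] [Abelian A] (P : ObjectProperty A)
  [P.IsClosedUnderIsomorphisms] [P.ContainsZero]

/-- `∐_{Fin (n+1)} f ≅ f 0 ⊞ ∐_{Fin n} f ∘ succ` -/
noncomputable def sigmaFinSuccIso {n : ℕ} (f : Fin (n + 1) → A) :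
    (∐ f) ≅ f 0 ⊞ ∐ fun i : Fin n => f i.succ :=
  (coproductIsCoproduct f).coconePointUniqueUpToIso
      (extendCofanIsColimit f (coproductIsCoproduct fun i : Fin n => f i.succ)
        (coprodIsCoprod (f 0) (∐ fun i : Fin n => f i.succ))) ≪≫
    (biprod.isoCoprod (f 0) (∐ fun i : Fin n => f i.succ)).symm

lemma clSub_sigma_const (hbi : ∀ X Y : A, P X → P Y → P (X ⊞ Y)) (M : A) (hM : P M) :
    ∀ n : ℕ, P (∐ fun _ : Fin n => M) ∧
      clSub P (∐ fun _ : Fin n => M) = n • clSub P M
  | 0 => by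
    have hz : IsZero (∐ fun _ : Fin 0 => M) := by
      rw [IsZero.iff_id_eq_zero]
      exact Sigma.hom_ext _ _ (fun i => i.elim0)
    exact ⟨P.prop_of_isZero hz, by rw [clSub_isZero P hz, zero_smul]⟩
  | n + 1 => by
    obtain ⟨h1, h2⟩ := clSub_sigma_const hbi M hM n
    let e := sigmaFinSuccIso (fun _ : Fin (n + 1) => M)
    have hb : P (M ⊞ ∐ fun _ : Fin n => M) := hbi _ _ hM h1
    have hP : P (∐ fun _ : Fin (n + 1) => M) := P.prop_of_iso e.symm hb
    refine ⟨hP, ?_⟩
    rw [clSub_iso P e hP]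
    have hS := clSub_shortExact P _
      (ShortComplex.Splitting.ofHasBinaryBiproduct M (∐ fun _ : Fin n => M)).shortExact hM hb h1
    change clSub P (M ⊞ ∐ fun _ : Fin n => M) = _ at hS
    rw [hS, h2, succ_nsmul, add_comm]

end Groth.Agent.H30.K0Bridge
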