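import Mathlib
import Groth.Agent.H30.CohLoc.K0Open

/-!
# Transport of `K₀(Coh)` along the isomorphism `U ≅ j.opensRange` for an open immersion `j`
-/

set_option autoImplicit false
set_option linter.style.haveILetI false
universe u
open CategoryTheory Limits TopologicalSpace Opposite AlgebraicGeometry

namespace Groth.Agent.H30.CohLoc

open KZero Groth.Agent.H30.K0Bridge

attribute [local instance] coh_iso coh_zero

lemma isCoh_restrict {X Y : Scheme.{u}} (f : X ⟶ Y) [IsOpenImmersion f] (M : Y.Modules)
    (hM : Coh.IsCoh M) : Coh.IsCoh ((Scheme.Modules.restrictFunctor f).obj M) := by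
  haveI : M.IsQuasicoherent := hM.1
  exact ⟨Scheme.Modules.isQuasicoherent_restrictFunctor f M,
    Groth.Agent.H12.CohOpen.isFiniteType_restrict f M hM.2⟩

section Transport

variable {X U : Scheme.{u}} (j : U ⟶ X) [IsOpenImmersion j]

/-- `K₀(Coh V) → K₀(Coh U)`, `V = j.opensRange` -/
noncomputable abbrev eps : K0sub (cohP (↑j.opensRange : Scheme.{u})) →+ K0sub (cohP U) :=
  SGA6.mapSub (Scheme.Modules.restrictFunctor j.isoOpensRange.hom)
    (cohP (↑j.opensRange : Scheme.{u})) (cohP U) (isCoh_restrict j.isoOpensRange.hom)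

/-- `K₀(Coh U) → K₀(Coh V)` -/
noncomputable abbrev eps' : K0sub (cohP U) →+ K0sub (cohP (↑j.opensRange : Scheme.{u})) :=
  SGA6.mapSub (Scheme.Modules.restrictFunctor j.isoOpensRange.inv)
    (cohP U) (cohP (↑j.opensRange : Scheme.{u})) (isCoh_restrict j.isoOpensRange.inv)

lemma eps'_eps (x : K0sub (cohP (↑j.opensRange : Scheme.{u}))) : eps' j (eps j x) = x := by
  induction x using K0sub_induction (cohP (↑j.opensRange : Scheme.{u})) with
  | zero => simp
  | cl N hN =>
    rw [mapSub_clSub _ _ _ _ hN, mapSub_clSub _ _ _ _ (isCoh_restrict _ _ hN)]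
    have e : (Scheme.Modules.restrictFunctor j.isoOpensRange.inv).obj
        ((Scheme.Modules.restrictFunctor j.isoOpensRange.hom).obj N) ≅ N :=
      ((Scheme.Modules.restrictFunctorComp j.isoOpensRange.inv j.isoOpensRange.hom).symm ≪≫
        Scheme.Modules.restrictFunctorCongr (j.isoOpensRange.inv_hom_id) ≪≫
        Scheme.Modules.restrictFunctorId).app N
    exact clSub_iso _ e (isCoh_restrict _ _ (isCoh_restrict _ _ hN))
  | neg x h => rw [map_neg, map_neg, h]
  | add x y hx hy => rw [map_add, map_add, hx, hy]

lemma eps_eps' (x : K0sub (cohP U)) : eps j (eps' j x) = x := by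
  induction x using K0sub_induction (cohP U) with
  | zero => simp
  | cl N hN =>
    rw [mapSub_clSub _ _ _ _ hN, mapSub_clSub _ _ _ _ (isCoh_restrict _ _ hN)]
    have e : (Scheme.Modules.restrictFunctor j.isoOpensRange.hom).obj
        ((Scheme.Modules.restrictFunctor j.isoOpensRange.inv).obj N) ≅ N :=
      ((Scheme.Modules.restrictFunctorComp j.isoOpensRange.hom j.isoOpensRange.inv).symm ≪≫
        Scheme.Modules.restrictFunctorCongr (j.isoOpensRange.hom_inv_id) ≪≫
        Scheme.Modules.restrictFunctorId).app N
    exact clSub_iso _ e (isCoh_restrict _ _ (isCoh_restrict _ _ hN))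
  | neg x h => rw [map_neg, map_neg, h]
  | add x y hx hy => rw [map_add, map_add, hx, hy]

lemma eps_injective : Function.Injective (eps j) :=
  Function.LeftInverse.injective (eps'_eps j)

lemma eps_surjective : Function.Surjective (eps j) :=
  Function.RightInverse.surjective (eps_eps' j)

variable (hj : ∀ M : X.Modules, Coh.IsCoh M →
    Coh.IsCoh ((Scheme.Modules.restrictFunctor j).obj M))

lemma rho_j_eq (x : K0sub (cohP X)) :
    SGA6.mapSub (Scheme.Modules.restrictFunctor j) (cohP X) (cohP U) hj x =
      eps j (rho X j.opensRange (isCoh_restrict j.opensRange.ι) x) := by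
  induction x using K0sub_induction (cohP X) with
  | zero => simp
  | cl M hM =>
    rw [mapSub_clSub _ _ _ _ hM, mapSub_clSub _ _ _ _ hM,
      mapSub_clSub _ _ _ _ (isCoh_restrict _ _ hM)]
    have e : (Scheme.Modules.restrictFunctor j).obj M ≅
        (Scheme.Modules.restrictFunctor j.isoOpensRange.hom).obj
          ((Scheme.Modules.restrictFunctor j.opensRange.ι).obj M) :=
      (Scheme.Modules.restrictFunctorCongr (j.isoOpensRange_hom_ι).symm ≪≫
        Scheme.Modules.restrictFunctorComp j.isoOpensRange.hom j.opensRange.ι).app M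
    exact clSub_iso _ e (hj M hM)
  | neg x h => rw [map_neg, map_neg, map_neg, h]
  | add x y hx hy => rw [map_add, map_add, map_add, hx, hy]

end Transport

end Groth.Agent.H30.CohLoc
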