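import Mathlib
import Groth.Agent.H30.QCohLoc

/-!
# Modules supported inside an open subscheme are determined by their restriction to it
-/

set_option autoImplicit false
set_option linter.style.haveILetI false
universe u
open CategoryTheory Limits TopologicalSpace Opposite AlgebraicGeometry

namespace Groth.Agent.H30.CohLoc

open Scheme.Modules Groth.Agent.H30.QCohLoc

variable {Y : Scheme.{u}}

/-- `A` vanishes near every point outside the open `O₀` -/
def VanishesOff (A : Y.Modules) (O₀ : Y.Opens) : Prop :=
  ∀ y : Y, y ∉ O₀ → ∃ O : Y.Opens, y ∈ O ∧ ∀ y' ∈ O, Subsingleton (A.presheaf.stalk y')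

/-- restriction of sections from `W'` to `W''` is bijective if `A` vanishes near the points of
`W' ∖ W''` -/
lemma bijective_res_of_vanishes (A : Y.Modules) {W' W'' : Y.Opens} (hle : W'' ≤ W')
    (h : ∀ y ∈ W', y ∉ W'' →
      ∃ O : Y.Opens, y ∈ O ∧ ∀ y' ∈ O, Subsingleton (A.presheaf.stalk y')) :
    Function.Bijective (A.presheaf.map (homOfLE hle).op) := by
  constructor
  · intro s s' hss
    refine TopCat.Presheaf.section_ext ⟨A.presheaf, A.isSheaf⟩ W' s s' (fun y hy => ?_)
    by_cases hy'' : y ∈ W''
    · have h1 := A.presheaf.germ_res_apply (homOfLE hle) y hy'' s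
      have h2 := A.presheaf.germ_res_apply (homOfLE hle) y hy'' s'
      rw [← h1, ← h2, hss]
    · obtain ⟨O, hyO, hO⟩ := h y hy hy''
      haveI := hO y hyO
      exact Subsingleton.elim _ _
  · intro t
    -- the open set where `A` vanishes
    let N : Y.Opens := sSup {O : Y.Opens | ∀ y' ∈ O, Subsingleton (A.presheaf.stalk y')}
    have hN : ∀ y' ∈ N, Subsingleton (A.presheaf.stalk y') := by
      intro y' hy'
      obtain ⟨O, hO, hyO⟩ := Opens.mem_sSup.mp hy'
      exact hO y' hyO
    let Uc : Bool → Y.Opens := fun b => if b then W'' else W' ⊓ N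
    have iUV : ∀ b, Uc b ⟶ W' := fun b => by
      cases b
      · exact homOfLE inf_le_left
      · exact homOfLE hle
    have hcover : W' ≤ iSup Uc := by
      intro y hy
      by_cases hy'' : y ∈ W''
      · exact Opens.mem_iSup.mpr ⟨true, hy''⟩
      · obtain ⟨O, hyO, hO⟩ := h y hy hy''
        refine Opens.mem_iSup.mpr ⟨false, hy, ?_⟩
        exact Opens.mem_sSup.mpr ⟨O, hO, hyO⟩
    let sf : ∀ b, ToType (A.presheaf.obj (op (Uc b))) := fun b => by
      cases b
      · exact 0
      · exact t
    have hzero : ∀ (O : Y.Opens) (_ : O ≤ N) (s s' : ToType (A.presheaf.obj (op O))), s = s' := by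
      intro O hO s s'
      rw [sections_eq_zero_of_subsingleton_stalk A O (fun y hy => hN y (hO hy)) s,
        sections_eq_zero_of_subsingleton_stalk A O (fun y hy => hN y (hO hy)) s']
    have hcompat : TopCat.Presheaf.IsCompatible A.presheaf Uc sf := by
      intro b b'
      cases b <;> cases b'
      · exact hzero _ (inf_le_left.trans inf_le_right) _ _
      · exact hzero _ (inf_le_left.trans inf_le_right) _ _
      · exact hzero _ (inf_le_right.trans inf_le_right) _ _
      · rfl
    obtain ⟨s, hs, -⟩ := TopCat.Sheaf.existsUnique_gluing' (⟨A.presheaf, A.isSheaf⟩ :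
      TopCat.Sheaf Ab Y) Uc W' iUV hcover sf hcompat
    exact ⟨s, hs true⟩

variable {Y₀ : Scheme.{u}} (f : Y₀ ⟶ Y) [IsOpenImmersion f]

/-- the unit `A ⟶ f_* f^* A` is an isomorphism if `A` vanishes near every point outside the
image of `f` -/
lemma isIso_unit_of_vanishesOff (A : Y.Modules) (hA : VanishesOff A f.opensRange) :
    IsIso ((restrictAdjunction f).unit.app A) := by
  rw [Hom.isIso_iff_isIso_app]
  intro W'
  rw [restrictAdjunction_unit_app_app]
  have hb : Function.Bijective (A.presheaf.map (homOfLE (f.image_preimage_le W')).op) := by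
    refine bijective_res_of_vanishes A _ (fun y hy hy'' => hA y (fun hyr => hy'' ?_))
    rw [Scheme.Hom.image_preimage_eq_opensRange_inf]
    exact ⟨hyr, hy⟩
  exact (ConcreteCategory.isIso_iff_bijective
    (A.presheaf.map (homOfLE (f.image_preimage_le W')).op)).2 hb

/-- modules vanishing off the image of `f` are isomorphic as soon as their restrictions are -/
lemma nonempty_iso_of_restrict_iso (A B : Y.Modules) (hA : VanishesOff A f.opensRange)
    (hB : VanishesOff B f.opensRange)
    (e : (restrictFunctor f).obj A ≅ (restrictFunctor f).obj B) : Nonempty (A ≅ B) := by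
  haveI := isIso_unit_of_vanishesOff f A hA
  haveI := isIso_unit_of_vanishesOff f B hB
  exact ⟨asIso ((restrictAdjunction f).unit.app A) ≪≫ (pushforward f).mapIso e ≪≫
    (asIso ((restrictAdjunction f).unit.app B)).symm⟩

/-- stalks of a restriction -/
lemma subsingleton_stalk_restrict (M : Y.Modules) (y₀ : Y₀)
    (h : Subsingleton (M.presheaf.stalk (f y₀))) :
    Subsingleton (((restrictFunctor f).obj M).presheaf.stalk y₀) := by
  have e := (restrictStalkNatIso f y₀).app M
  exact @Equiv.subsingleton _ _ (e.addCommGroupIsoToAddEquiv.toEquiv) h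

end Groth.Agent.H30.CohLoc
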