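import Mathlib
import Groth.Agent.H30.CohLoc.SuppIso
import Groth.Agent.H30.CohLoc.K0Pow
import Groth.Agent.H30.CohLoc.K0Open
import Groth.Agent.H30.CohLoc.K0Transport
import Groth.Agent.H5.FinLocFreeOps
import Groth.Agent.H45.KFlat.Symmetry
import Groth.Agent.H67.K0Tensor

/-!
# Tensoring with a locally free module of rank `r` is `r` plus a nilpotent on `K₀(Coh W)`
-/

set_option autoImplicit false
set_option linter.style.haveILetI false
universe u
open CategoryTheory Limits TopologicalSpace Opposite AlgebraicGeometry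

namespace Groth.Agent.H30.CohLoc

open KZero Groth.Agent.H30.K0Bridge Scheme.Modules Groth.Agent.H30.QCohLoc

attribute [local instance] coh_iso coh_zero

variable {W : Scheme.{u}}

/-- the subgroup of `K₀(Coh W)` generated by the coherent modules supported in `Z` -/
noncomputable def KZ (Z : Set W) : AddSubgroup (K0sub (cohP W)) :=
  AddSubgroup.closure {z | ∃ (M : W.Modules) (_ : Coh.IsCoh M),
    CohB1.support M ⊆ Z ∧ z = clSub (cohP W) M}

lemma isZero_sigma_const {N : W.Modules} (hN : IsZero N) (r : ℕ) :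
    IsZero (∐ fun _ : Fin r => N) := by
  rw [IsZero.iff_id_eq_zero]
  exact Sigma.hom_ext _ _ (fun i => hN.eq_of_src _ _)

noncomputable def restrictSigmaIso {U : Scheme.{u}} (j : U ⟶ W) [IsOpenImmersion j]
    (M : W.Modules) (r : ℕ) :
    (restrictFunctor j).obj (∐ fun _ : Fin r => M) ≅ ∐ fun _ : Fin r => (restrictFunctor j).obj M :=
  haveI : PreservesColimitsOfSize.{0, 0} (restrictFunctor j) :=
    (restrictAdjunction j).leftAdjoint_preservesColimits
  PreservesCoproduct.iso (restrictFunctor j) (fun _ : Fin r => M)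

/-- the support of a finite power -/
lemma support_sigma_const_subset (M : W.Modules) (r : ℕ) (Z : Set W) (hZ : IsClosed Z)
    (hM : CohB1.support M ⊆ Z) : CohB1.support (∐ fun _ : Fin r => M) ⊆ Z := by
  let O : W.Opens := ⟨Zᶜ, hZ.isOpen_compl⟩
  have hO : ((O.ι.opensRange : W.Opens) : Set W)ᶜ = Z := by
    rw [Scheme.Opens.opensRange_ι]
    exact compl_compl Z
  have h1 : IsZero ((restrictFunctor O.ι).obj M) := by
    rw [← support_subset_compl_iff, hO]
    exact hM
  have h2 : IsZero ((restrictFunctor O.ι).obj (∐ fun _ : Fin r => M)) :=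
    IsZero.of_iso (isZero_sigma_const h1 r) (restrictSigmaIso O.ι M r)
  rw [← support_subset_compl_iff, hO] at h2
  exact h2

/-- symmetry of the tensor product -/
noncomputable def flipIso {Y : Scheme.{u}} (A B : Y.Modules) :
    ((DCoh.tensorBi (X := Y)).obj A).obj B ≅ ((DCoh.tensorBi (X := Y)).obj B).obj A :=
  ((Groth.Agent.H45.tensorBiFlipIso Y.sheaf).app A).app B

/-- on an open where `V` is free of rank `r`, `V ⊗ M` restricts to `r` copies of `M` -/
noncomputable def tensorRestrictIso (V M : W.Modules) (U₀ : W.Opens) (r : ℕ)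
    (e : V.restrict U₀.ι ≅ FlatMod.freeMod (↑U₀) r) :
    (restrictFunctor U₀.ι).obj (((DCoh.tensorBi (X := W)).obj V).obj M) ≅
      (restrictFunctor U₀.ι).obj (∐ fun _ : Fin r => M) :=
  let M₀ : (U₀ : Scheme.{u}).Modules := (restrictFunctor U₀.ι).obj M
  let F₀ : (U₀ : Scheme.{u}).Modules := FlatMod.freeMod (↑U₀) r
  let e1 : (restrictFunctor U₀.ι).obj (((DCoh.tensorBi (X := W)).obj V).obj M) ≅
      ((DCoh.tensorBi (X := (U₀ : Scheme.{u}))).obj ((restrictFunctor U₀.ι).obj V)).obj M₀ :=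
    Groth.Agent.H5.FinLocFreeOps.restrictTensorIso U₀.ι V M
  let e2 : ((DCoh.tensorBi (X := (U₀ : Scheme.{u}))).obj ((restrictFunctor U₀.ι).obj V)).obj M₀ ≅
      ((DCoh.tensorBi (X := (U₀ : Scheme.{u}))).obj F₀).obj M₀ :=
    Groth.Agent.H5.FinLocFreeOps.tensorIso e (Iso.refl M₀)
  let e3 : ((DCoh.tensorBi (X := (U₀ : Scheme.{u}))).obj F₀).obj M₀ ≅
      ((DCoh.tensorBi (X := (U₀ : Scheme.{u}))).obj M₀).obj F₀ :=
    flipIso F₀ M₀
  let e4 : ((DCoh.tensorBi (X := (U₀ : Scheme.{u}))).obj M₀).obj F₀ ≅ ∐ fun _ : Fin r => M₀ :=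
    Groth.Agent.H5.FinLocFreeOps.tensorFreeIso M₀ r
  e1 ≪≫ e2 ≪≫ e3 ≪≫ e4 ≪≫ (restrictSigmaIso U₀.ι M r).symm

section Main

variable [IsNoetherian W] (r : ℕ) (V : W.Modules) (hV : FlatMod.IsFinLocFreeOfRank r V)
  [((DCoh.tensorBi (X := W)).obj V).Additive]
  [PreservesFiniteLimits ((DCoh.tensorBi (X := W)).obj V)]
  [PreservesFiniteColimits ((DCoh.tensorBi (X := W)).obj V)]
  (hVc : ∀ M : W.Modules, Coh.IsCoh M → Coh.IsCoh (((DCoh.tensorBi (X := W)).obj V).obj M))

/-- `φ = [V ⊗ -] - r` on `K₀(Coh W)` -/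
noncomputable abbrev phi : K0sub (cohP W) →+ K0sub (cohP W) :=
  SGA6.mapSub ((DCoh.tensorBi (X := W)).obj V) (cohP W) (cohP W) hVc -
    r • AddMonoidHom.id (K0sub (cohP W))

include hV in
/-- the key step: if `V` is free on `U₀` and `M` is supported in `Z`, then `φ[M]` is supported in
`Z ∖ U₀` -/
theorem phi_clSub_mem (Z : Set W) (hZ : IsClosed Z) (U₀ : W.Opens)
    (e : V.restrict U₀.ι ≅ FlatMod.freeMod (↑U₀) r) (M : W.Modules) (hM : Coh.IsCoh M)
    (hMZ : CohB1.support M ⊆ Z) :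
    phi r V hVc (clSub (cohP W) M) ∈ KZ (Z \ (U₀ : Set W)) := by
  have hZ' : IsClosed (Z \ (U₀ : Set W)) := hZ.sdiff U₀.isOpen
  let U : W.Opens := ⟨(Z \ (U₀ : Set W))ᶜ, hZ'.isOpen_compl⟩
  have hU₀U : U₀ ≤ U := fun x hx h => h.2 hx
  have hres : ∀ N : W.Modules, Coh.IsCoh N → Coh.IsCoh ((restrictFunctor U.ι).obj N) :=
    fun N hN => isCoh_restrict U.ι N hN
  let TM : W.Modules := ((DCoh.tensorBi (X := W)).obj V).obj M
  have hTM : Coh.IsCoh TM := hVc M hM
  have hTMZ : CohB1.support TM ⊆ Z :=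
    (Groth.Agent.H67.K0Tensor.support_tensor_subset V hV M).trans hMZ
  obtain ⟨hPs, hcl⟩ := clSub_sigma_const (cohP W)
    (fun X Y hX hY => isCoh_biprod X Y hX hY) M hM r
  have hPZ : CohB1.support (∐ fun _ : Fin r => M) ⊆ Z :=
    support_sigma_const_subset M r Z hZ hMZ
  have h1 : phi r V hVc (clSub (cohP W) M) =
      clSub (cohP W) TM - clSub (cohP W) (∐ fun _ : Fin r => M) := by
    rw [hcl]
    change SGA6.mapSub ((DCoh.tensorBi (X := W)).obj V) (cohP W) (cohP W) hVc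
      (clSub (cohP W) M) - r • clSub (cohP W) M = _
    rw [mapSub_clSub _ _ _ hVc hM]
  -- the restrictions to `U` are isomorphic
  let f : (U₀ : Scheme.{u}) ⟶ (U : Scheme.{u}) := W.homOfLE hU₀U
  let d : ∀ N : W.Modules, (restrictFunctor U₀.ι).obj N ≅
      (restrictFunctor f).obj ((restrictFunctor U.ι).obj N) := fun N =>
    (restrictFunctorCongr (W.homOfLE_ι hU₀U).symm).app N ≪≫
      (restrictFunctorComp (W.homOfLE hU₀U) U.ι).app N
  have hvan : ∀ N : W.Modules, CohB1.support N ⊆ Z →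
      VanishesOff ((restrictFunctor U.ι).obj N) f.opensRange := by
    intro N hN y hy
    have hy0 : U.ι y ∉ U₀ := by
      intro hy0
      apply hy
      rw [Scheme.opensRange_homOfLE]
      exact hy0
    have hyZ : U.ι y ∉ Z := fun hyZ => y.2 ⟨hyZ, hy0⟩
    refine ⟨U.ι ⁻¹ᵁ ⟨Zᶜ, hZ.isOpen_compl⟩, hyZ, fun y' hy' => ?_⟩
    refine subsingleton_stalk_restrict U.ι N y' ?_
    by_contra hn
    exact hy' (hN hn)
  obtain ⟨iso⟩ := nonempty_iso_of_restrict_iso f _ _ (hvan TM hTMZ) (hvan _ hPZ)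
    ((d TM).symm ≪≫ tensorRestrictIso V M U₀ r e ≪≫ d (∐ fun _ : Fin r => M))
  have key : rho W U hres (phi r V hVc (clSub (cohP W) M)) = 0 := by
    rw [h1, map_sub, mapSub_clSub _ _ _ hres hTM, mapSub_clSub _ _ _ hres hPs, sub_eq_zero]
    exact clSub_iso _ iso (hres _ hTM)
  have hmem := mem_closure_of_mem_ker W U hres _ key
  have hc : ((U : W.Opens) : Set W)ᶜ = Z \ (U₀ : Set W) := compl_compl _
  rw [hc] at hmem
  exact hmem

include hV in
theorem phi_mem (Z : Set W) (hZ : IsClosed Z) (U₀ : W.Opens)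
    (e : V.restrict U₀.ι ≅ FlatMod.freeMod (↑U₀) r) (y : K0sub (cohP W)) (hy : y ∈ KZ Z) :
    phi r V hVc y ∈ KZ (Z \ (U₀ : Set W)) := by
  refine AddSubgroup.closure_induction (p := fun y _ => phi r V hVc y ∈ KZ (Z \ (U₀ : Set W)))
    ?_ ?_ ?_ ?_ hy
  · rintro _ ⟨M, hM, hMZ, rfl⟩
    exact phi_clSub_mem r V hV hVc Z hZ U₀ e M hM hMZ
  · rw [map_zero]
    exact zero_mem _
  · intro a b _ _ ha hb
    rw [map_add]
    exact add_mem ha hb
  · intro a _ ha
    rw [map_neg]
    exact neg_mem ha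

omit [AlgebraicGeometry.IsNoetherian W] in
lemma eq_zero_of_mem_KZ_empty (y : K0sub (cohP W)) (hy : y ∈ KZ (∅ : Set W)) : y = 0 := by
  refine AddSubgroup.closure_induction (p := fun y _ => y = 0) ?_ rfl ?_ ?_ hy
  · rintro _ ⟨M, _, hMZ, rfl⟩
    have hz : IsZero M := by
      refine isZero_of_sections_eq_zero M (fun O s => ?_)
      refine sections_eq_zero_of_subsingleton_stalk M O (fun x _ => ?_) s
      by_contra hn
      exact hMZ hn
    exact clSub_isZero _ hz
  · rintro a b _ _ rfl rfl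
    exact add_zero _
  · rintro a _ rfl
    exact neg_zero

include hV in
theorem exists_iterate_eq_zero (Z : Closeds W) :
    ∃ n : ℕ, ∀ y ∈ KZ (Z : Set W), (⇑(phi r V hVc))^[n] y = 0 := by
  induction Z using WellFoundedLT.induction with
  | ind Z ih =>
    by_cases hZe : (Z : Set W) = ∅
    · refine ⟨0, fun y hy => ?_⟩
      rw [hZe] at hy
      exact eq_zero_of_mem_KZ_empty y hy
    · obtain ⟨z, hz⟩ := Set.nonempty_iff_ne_empty.mpr hZe
      obtain ⟨U₀, hzU₀, ⟨e⟩⟩ := hV z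
      let Z' : Closeds W := ⟨(Z : Set W) \ (U₀ : Set W), Z.isClosed.sdiff U₀.isOpen⟩
      have hle : Z' ≤ Z := fun x hx => hx.1
      have hlt : Z' < Z := by
        refine lt_of_le_of_ne hle (fun heq => ?_)
        have hz' : z ∈ (Z' : Set W) := by
          rw [heq]
          exact hz
        exact hz'.2 hzU₀
      obtain ⟨n', hn'⟩ := ih Z' hlt
      refine ⟨n' + 1, fun y hy => ?_⟩
      rw [Function.iterate_succ_apply]
      exact hn' _ (phi_mem r V hV hVc (Z : Set W) Z.isClosed U₀ e y hy)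

include hV in
/-- `[V ⊗ -] - r` is nilpotent on `K₀(Coh W)` -/
theorem tensor_sub_rank_nilpotent :
    ∃ n : ℕ, ∀ y : K0sub (cohP W), (⇑(phi r V hVc))^[n] y = 0 := by
  obtain ⟨n, hn⟩ := exists_iterate_eq_zero r V hV hVc ⊤
  refine ⟨n, fun y => hn y ?_⟩
  induction y using K0sub_induction (cohP W) with
  | zero => exact zero_mem _
  | cl M hM => exact AddSubgroup.subset_closure ⟨M, hM, Set.subset_univ _, rfl⟩
  | neg x h => exact neg_mem h
  | add x y hx hy => exact add_mem hx hy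

end Main

end Groth.Agent.H30.CohLoc
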