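import Mathlib
import Groth.Agent.H30.CohLoc.K0Dev
import Groth.Agent.H30.CohLoc.K0Transport

/-!
# The localization sequence `K₀(Coh X') → K₀(Coh X) → K₀(Coh U) → 0`
-/

set_option autoImplicit false
set_option linter.style.haveILetI false
universe u
open CategoryTheory Limits TopologicalSpace Opposite AlgebraicGeometry

namespace Groth.Agent.H30.CohLoc

open KZero Groth.Agent.H30.K0Bridge

attribute [local instance] coh_iso coh_zero

theorem k0_localization {X X' U : Scheme.{u}} [IsNoetherian X] (i : X' ⟶ X) [IsClosedImmersion i]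
    (j : U ⟶ X) [IsOpenImmersion j] (hU : Set.range j = (Set.range i)ᶜ)
    [(Scheme.Modules.pushforward i).Additive] [PreservesFiniteLimits (Scheme.Modules.pushforward i)]
    [PreservesFiniteColimits (Scheme.Modules.pushforward i)]
    [PreservesFiniteLimits (Scheme.Modules.restrictFunctor j)]
    (hi : ∀ M : X'.Modules, Coh.IsCoh M → Coh.IsCoh ((Scheme.Modules.pushforward i).obj M))
    (hj : ∀ M : X.Modules, Coh.IsCoh M → Coh.IsCoh ((Scheme.Modules.restrictFunctor j).obj M)) :
    Function.Surjective (SGA6.mapSub (Scheme.Modules.restrictFunctor j)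
        (fun M : (X).Modules => Coh.IsCoh M) (fun M : (U).Modules => Coh.IsCoh M) hj) ∧
      (SGA6.mapSub (Scheme.Modules.restrictFunctor j) (fun M : (X).Modules => Coh.IsCoh M)
        (fun M : (U).Modules => Coh.IsCoh M) hj).ker =
        (SGA6.mapSub (Scheme.Modules.pushforward i) (fun M : (X').Modules => Coh.IsCoh M)
          (fun M : (X).Modules => Coh.IsCoh M) hi).range := by
  have hV : ((j.opensRange : X.Opens) : Set X) = Set.range j := Scheme.Hom.coe_opensRange j
  constructor
  · intro z
    obtain ⟨w, hw⟩ := eps_surjective j z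
    obtain ⟨x, hx⟩ := rho_surjective X j.opensRange (isCoh_restrict j.opensRange.ι) w
    exact ⟨x, by rw [rho_j_eq j hj, hx, hw]⟩
  · apply le_antisymm
    · intro x hx
      rw [AddMonoidHom.mem_ker, rho_j_eq j hj] at hx
      have hx' : rho X j.opensRange (isCoh_restrict j.opensRange.ι) x = 0 :=
        eps_injective j (by rw [hx, map_zero])
      have h := mem_closure_of_mem_ker X j.opensRange (isCoh_restrict j.opensRange.ι) x hx'
      refine (AddSubgroup.closure_le _).2 ?_ h
      rintro _ ⟨M, hM, hsupp, rfl⟩
      refine clSub_mem_range i hi M hM ?_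
      rw [hV, hU, compl_compl] at hsupp
      exact hsupp
    · rintro _ ⟨y, rfl⟩
      rw [AddMonoidHom.mem_ker]
      induction y using K0sub_induction (cohP X') with
      | zero => simp
      | cl F hF =>
        rw [mapSub_clSub _ _ _ _ hF, mapSub_clSub _ _ _ _ (hi F hF)]
        refine clSub_isZero _ ?_
        rw [← QCohLoc.support_subset_compl_iff j, hV, hU, compl_compl]
        exact Groth.Agent.H71.QCoh.support_subset_range_of_iso_pushforward i _ _ (Iso.refl _)
      | neg x h => rw [map_neg, map_neg, h, neg_zero]
      | add x y hx hy => rw [map_add, map_add, hx, hy, add_zero]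

end Groth.Agent.H30.CohLoc
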